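import Cfsg.Agent.H701.Pw.LyWord
import Cfsg.Agent.H204.Ore.LyMain
import Cfsg.Agent.H511.Ore.RowLy
import Cfsg.Agent.H643.PwCnt
import Cfsg.Agent.H134.Sq.Base

/-!
# Pw (S2465) for the Lyons group (helper701)

* `six_ly` : every element is a product of two elements of order prime to 6;
* `pw_ly` : the row of S2465; `sq_ly` : products of two squares (S2453).
`hK` : the classification (universe 0), `fun _ _ _ h => S0000.result`.
-/

set_option autoImplicit false

namespace Cfsg.Agent.H701.Pw.LyRow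

open Subgroup Equiv Cfsg Cfsg.Agent Cfsg.Agent.H204.Ore.LyEven Cfsg.Agent.H204.Ore.LySmall
open Cfsg.Agent.H204.Ore.LyOdd Cfsg.Agent.H78.Pw Cfsg.Agent.SporRec.TwoAn Cfsg.Agent.TypeM.Two

universe u

abbrev G : Type := Cfsg.Spor.Ly

/-- small centralizers: products of two elements of order 31 -/
theorem pr_of_card (hK : H995.CopEngine.AllKnown.{0}) {n : ℕ} (hn : Nat.Coprime 31 n) {g : G}
    (hg : Nat.card (centralizer ({g} : Set G)) ≤ 273375) : Pr n g := by
  obtain ⟨x, hx⟩ := H511.Ore.Ly.ex 31 (by norm_num) (by norm_num)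
  obtain ⟨a, b, h⟩ := H511.Ore.Ly.prd_ly hK hx hx (g := g) (hg.trans (by norm_num))
  have h1 : ∀ c : G, orderOf (c * x * c⁻¹) = 31 := fun c => by
    rw [← hx]
    exact orderOf_injective (MulAut.conj c).toMonoidHom (MulAut.conj c).injective x
  exact ⟨_, _, h.symm, by rwa [h1], by rwa [h1]⟩

/-- involutions -/
theorem pr_inv {g : G} (hg : g * g = 1) : Pr 6 g := by
  by_cases hg1 : g = 1
  · rw [hg1]; exact Pr.one 6
  obtain ⟨M⟩ := TypeM.FactsLy.exists_mt_ly
  obtain ⟨i, h1, h2, h3⟩ := LyWord.exists_inv M.K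
  have h4 := h3.of_sub
  obtain ⟨c, hc⟩ := M.one g hg hg1
  obtain ⟨d, hd⟩ := M.one (i : G) (congrArg Subtype.val h1) (fun h => h2 (Subtype.ext h))
  refine h4.of_isConj (isConj_iff.2 ⟨c * d⁻¹, ?_⟩)
  rw [← hc, ← hd]
  group

/-- `{3, 5}`-elements commuting with an involution -/
theorem pr_real (L : MT 11 G) {g s : G} (hs : orderOf s = 2) (hsg : s * g = g * s) {a b : ℕ}
    (hg : orderOf g ∣ 3 ^ a * 5 ^ b) : Pr 6 g := by
  obtain ⟨h1, h2⟩ := MT.sq_of_orderOf hs
  obtain ⟨L', rfl⟩ := L.exists_rebase h1 h2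
  set y : centralizer ({L'.t} : Set G) := ⟨g, L'.mem_iff.2 hsg.symm⟩ with hy
  have hyo : orderOf y = orderOf g := Subgroup.orderOf_mk _ _
  have hodd : Odd (3 ^ a * 5 ^ b) := (Odd.pow (by decide)).mul (Odd.pow (by decide))
  have hy1 : y ^ (3 ^ a * 5 ^ b) = 1 := orderOf_dvd_iff_pow_eq_one.1 (hyo ▸ hg)
  have hσ : orderOf (L'.K.π y) ∣ 3 ^ a * 5 ^ b := orderOf_dvd_iff_pow_eq_one.2 (by rw [← map_pow, hy1, map_one])
  have h := LyWord.pr_odd L'.K hodd hy1 (H204.Ore.LyPerm.parts_of_order hσ)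
  exact h.of_sub

/-- **(I)** -/
theorem six_ly' (hK : H995.CopEngine.AllKnown.{0}) : All 6 G := by
  intro g
  have := fin
  have : Fact (Nat.Prime 2) := ⟨Nat.prime_two⟩
  by_cases hg : g * g = 1
  · exact pr_inv hg
  have hg1 : g ≠ 1 := fun h => hg (by rw [h, mul_one])
  by_cases h2 : 2 ∣ Nat.card (centralizer ({g} : Set G))
  swap
  · exact pr_of_card hK (by norm_num) (card_le_odd hK hg1 h2)
  obtain ⟨L, f, hf⟩ := H799.PB.exists_lyType
  by_cases h3 : 2 ∣ orderOf g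
  · exact pr_of_card hK (by norm_num) ((card_le_even L hf h3 hg).trans (by norm_num))
  rcases cases hK h3 with h | h
  · exact pr_of_card hK (by norm_num) (h.trans (by norm_num))
  obtain ⟨s, hs⟩ := exists_prime_orderOf_dvd_card' 2 h2
  obtain ⟨M⟩ := TypeM.FactsLy.exists_mt_ly
  exact pr_real M (s := (s : G)) (by rw [Subgroup.orderOf_coe, hs]) (mem_centralizer_singleton_iff.1 s.2) h

/-- **(II)**, `p ≠ 31` -/
theorem big_ly' (hK : H995.CopEngine.AllKnown.{0}) {p : ℕ} (hp : p.Prime) (h5 : 5 ≤ p) (h31 : p ≠ 31) : All p G := by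
  have hc : Nat.Coprime 31 p := (Nat.coprime_primes (by norm_num) hp).2 (Ne.symm h31)
  have h2 : Nat.Coprime 2 p := (Nat.coprime_primes Nat.prime_two hp).2 (by omega)
  have key : ∀ x : G, x * x = 1 → (orderOf x).Coprime p := fun x hx =>
    Nat.Coprime.of_dvd_left (orderOf_dvd_of_pow_eq_one (by rw [pow_two]; exact hx)) h2
  intro g
  refine H204.Ore.LyMain.all_of hK (P := fun g => Pr p g) (fun g hg => pr_of_card hK hc hg)
    (fun g hg => Pr.of_coprime (key g hg)) (fun g u h1 h2 _ => ?_) g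
  have h3 : u⁻¹ = u := inv_eq_of_mul_eq_one_left h1
  rw [h3] at h2
  refine ⟨u, u * g, by rw [← mul_assoc, h1, one_mul], key u h1, key _ ?_⟩
  calc u * g * (u * g) = (u * g * u) * g := by group
    _ = 1 := by rw [h2, inv_mul_cancel]

theorem pw_ly' (hK : H995.CopEngine.AllKnown.{0}) : Pw G := by
  have := fin
  have := Cfsg.Agent.Ly.Setup.isSimple_ly
  refine ⟨six_ly' hK, fun p hp h5 => ?_⟩
  by_cases h31 : p = 31
  · rw [h31]
    refine H643.PwCnt.all_of_not_sq_dvd H511.Ore.Ly.nonab (by norm_num) ?_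
    rw [Cfsg.Agent.Ly.Setup.card_ly]
    norm_num
  · exact big_ly' hK hp h5 h31

/-- **S2465 for the Lyons group.** -/
theorem pw_ly (hK : H995.CopEngine.AllKnown.{0}) {S : Type u} [Group S] (h : Spor.IsoLy S) : Pw S := by
  obtain ⟨e⟩ := h
  exact (pw_ly' hK).congr e.symm

/-- products of two squares (S2453) -/
theorem sq_ly (hK : H995.CopEngine.AllKnown.{0}) {S : Type u} [Group S] (h : Spor.IsoLy S) :
    Cfsg.Agent.H134.Sq.AllP 2 S := fun g => (pw_ly hK h).pow (Or.inl Nat.prime_two.isPrimePow) g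

end Cfsg.Agent.H701.Pw.LyRow
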